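import Mathlib
import Groth.Agent.Lib.Helper7.AnDense.Core

set_option linter.style.haveILetI false
set_option linter.unusedVariables false
set_option linter.unusedSectionVars false
set_option autoImplicit false
set_option backward.isDefEq.respectTransparency.types false
set_option synthInstance.maxHeartbeats 400000
set_option maxHeartbeats 800000

open Polynomial Topology
open Groth.Agent.Helper7.AnDense

namespace Groth.Agent.Helper7.AnEt

section Family

variable {T : Type*} [TopologicalSpace T] {P : T → ℂ[X]} {d : ℕ}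

/-- Evaluation of a continuous family of polynomials of bounded degree is continuous. -/
theorem continuous_eval_family (hd : ∀ y, (P y).natDegree ≤ d)
    (hc : ∀ i, Continuous fun y => (P y).coeff i) :
    Continuous (fun q : T × ℂ => (P q.1).eval q.2) := by
  have h1 : (fun q : T × ℂ => (P q.1).eval q.2) =
      fun q => ∑ i ∈ Finset.range (d + 1), (P q.1).coeff i * q.2 ^ i := by
    funext q
    rw [Polynomial.eval_eq_sum_range' (Nat.lt_succ_of_le (hd q.1))]
  rw [h1]
  exact continuous_finsetSum _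
    (fun i _ => ((hc i).comp continuous_fst).mul (continuous_snd.pow i))

/-- Near a root of a member of a continuous family of monic polynomials, the nearby members
have nearby roots. -/
theorem exists_root_near (hm : ∀ y, (P y).Monic) (hd : ∀ y, (P y).natDegree = d)
    (hc : ∀ i, Continuous fun y => (P y).coeff i) (y₁ : T) (t₁ : ℂ)
    (h1 : (P y₁).eval t₁ = 0) (r : ℝ) (hr : 0 < r) :
    ∀ᶠ y in 𝓝 y₁, ∃ t, ‖t - t₁‖ < r ∧ (P y).eval t = 0 := by
  have hdpos : 0 < d := by
    rcases Nat.eq_zero_or_pos d with h0 | h0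
    · exfalso
      have h2 : P y₁ = 1 := (hm y₁).natDegree_eq_zero.mp ((hd y₁).trans h0)
      rw [h2, eval_one] at h1
      exact one_ne_zero h1
    · exact h0
  have hcont : Continuous (fun y => (P y).eval t₁) :=
    (continuous_eval_family (fun y => (hd y).le) hc).comp (Continuous.prodMk_left t₁)
  have hev : ∀ᶠ y in 𝓝 y₁, ‖(P y).eval t₁‖ < r ^ d := by
    have h2 : ‖(P y₁).eval t₁‖ < r ^ d := by
      rw [h1, norm_zero]
      positivity
    exact (hcont.norm.continuousAt (x := y₁)).eventually_lt continuousAt_const h2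
  filter_upwards [hev] with y hy
  have hq : (Polynomial.taylor t₁ (P y)).Monic := by
    show (Polynomial.taylor t₁ (P y)).leadingCoeff = 1
    rw [Polynomial.leadingCoeff_taylor]
    exact hm y
  have hqd : (Polynomial.taylor t₁ (P y)).natDegree = d := by
    rw [Polynomial.natDegree_taylor, hd]
  have hq0 : (Polynomial.taylor t₁ (P y)).coeff 0 = (P y).eval t₁ :=
    Polynomial.taylor_coeff_zero _ _
  obtain ⟨s, hs, hsr⟩ := exists_small_root (Polynomial.taylor t₁ (P y)) hq
    (by rw [hqd]; exact hdpos) r hr (by rw [hq0, hqd]; exact hy)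
  refine ⟨s + t₁, by simpa using hsr, ?_⟩
  rw [← Polynomial.taylor_eval]
  exact hs

/-- The projection from the space of roots of a continuous family of monic polynomials to the
parameter space is an open map. -/
theorem isOpenMap_root_proj (hm : ∀ y, (P y).Monic) (hd : ∀ y, (P y).natDegree = d)
    (hc : ∀ i, Continuous fun y => (P y).coeff i) :
    IsOpenMap (fun e : {q : T × ℂ // (P q.1).eval q.2 = 0} => e.1.1) := by
  intro O hO
  rw [isOpen_iff_mem_nhds]
  rintro _ ⟨e₁, he₁, rfl⟩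
  obtain ⟨O', hO', rfl⟩ := isOpen_induced_iff.mp hO
  have he₁' : (e₁.1.1, e₁.1.2) ∈ O' := he₁
  obtain ⟨N', O₂, hN', hO₂, hy₁, ht₁, hsub⟩ := isOpen_prod_iff.mp hO' e₁.1.1 e₁.1.2 he₁'
  obtain ⟨r, hr, hball⟩ := Metric.isOpen_iff.mp hO₂ e₁.1.2 ht₁
  have h3 := exists_root_near hm hd hc e₁.1.1 e₁.1.2 e₁.2 r hr
  filter_upwards [h3, hN'.mem_nhds hy₁] with y hy hyN
  obtain ⟨t, htr, ht0⟩ := hy
  refine ⟨⟨(y, t), ht0⟩, ?_, rfl⟩
  apply hsub
  exact ⟨hyN, hball (by rw [Metric.mem_ball, dist_eq_norm]; exact htr)⟩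

/-- The difference quotient of the family. -/
noncomputable def dq (P : T → ℂ[X]) (d : ℕ) (y : T) (a b : ℂ) : ℂ :=
  ∑ k ∈ Finset.range (d + 1), (P y).coeff k * ∑ i ∈ Finset.range k, a ^ i * b ^ (k - 1 - i)

theorem eval_sub_eval (hd : ∀ y, (P y).natDegree = d) (y : T) (a b : ℂ) :
    (P y).eval a - (P y).eval b = dq P d y a b * (a - b) := by
  rw [Polynomial.eval_eq_sum_range, Polynomial.eval_eq_sum_range, hd, ← Finset.sum_sub_distrib,
    dq, Finset.sum_mul]
  apply Finset.sum_congr rfl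
  intro k _
  rw [mul_assoc, (Commute.all a b).geom_sum₂_mul, mul_sub]

theorem continuous_dq (hc : ∀ i, Continuous fun y => (P y).coeff i) :
    Continuous (fun q : T × ℂ × ℂ => dq P d q.1 q.2.1 q.2.2) := by
  unfold dq
  refine continuous_finsetSum _ (fun k _ => ((hc k).comp continuous_fst).mul
    (continuous_finsetSum _ (fun i _ => ?_)))
  exact ((continuous_fst.comp continuous_snd).pow i).mul
    ((continuous_snd.comp continuous_snd).pow _)

theorem dq_self (hd : ∀ y, (P y).natDegree = d) (y : T) (t : ℂ) :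
    dq P d y t t = (P y).derivative.eval t := by
  rw [Polynomial.derivative_eval, Polynomial.sum_over_range' _ (by intro n; simp) (d + 1)
    (by rw [hd]; exact Nat.lt_succ_self d), dq]
  apply Finset.sum_congr rfl
  intro k _
  rw [geom_sum₂_self, mul_assoc]

/-- Near a simple root, roots are unique. -/
theorem exists_injOn_nhds (hd : ∀ y, (P y).natDegree = d)
    (hc : ∀ i, Continuous fun y => (P y).coeff i) (y₀ : T) (t₀ : ℂ)
    (hsimple : (P y₀).derivative.eval t₀ ≠ 0) :
    ∃ N : Set T, IsOpen N ∧ y₀ ∈ N ∧ ∃ r : ℝ, 0 < r ∧ ∀ y ∈ N, ∀ a b : ℂ,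
      ‖a - t₀‖ < r → ‖b - t₀‖ < r → (P y).eval a = 0 → (P y).eval b = 0 → a = b := by
  have hΩ : IsOpen {q : T × ℂ × ℂ | dq P d q.1 q.2.1 q.2.2 ≠ 0} :=
    isOpen_ne_fun (continuous_dq hc) continuous_const
  have hmem : (y₀, (t₀, t₀)) ∈ {q : T × ℂ × ℂ | dq P d q.1 q.2.1 q.2.2 ≠ 0} := by
    show dq P d y₀ t₀ t₀ ≠ 0
    rw [dq_self hd]
    exact hsimple
  obtain ⟨N, O₂, hN, hO₂, hy₀, ht₀, hsub⟩ := isOpen_prod_iff.mp hΩ y₀ (t₀, t₀) hmem
  obtain ⟨r, hr, hball⟩ := Metric.isOpen_iff.mp hO₂ (t₀, t₀) ht₀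
  refine ⟨N, hN, hy₀, r, hr, ?_⟩
  intro y hy a b ha hb hPa hPb
  have hq : dq P d y a b ≠ 0 := by
    have h1 : (y, (a, b)) ∈ N ×ˢ O₂ := by
      refine ⟨hy, hball ?_⟩
      rw [Metric.mem_ball, Prod.dist_eq, max_lt_iff, dist_eq_norm, dist_eq_norm]
      exact ⟨ha, hb⟩
    exact hsub h1
  have h2 := eval_sub_eval hd y a b
  rw [hPa, hPb, sub_zero] at h2
  rcases mul_eq_zero.mp h2.symm with h | h
  · exact absurd h hq
  · exact sub_eq_zero.mp h

end Family

end Groth.Agent.Helper7.AnEt
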