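import Mathlib
import Groth.Agent.Lib.Helper7.AnEt.Root

set_option linter.style.haveILetI false
set_option linter.unusedVariables false
set_option linter.unusedSectionVars false
set_option autoImplicit false
set_option backward.isDefEq.respectTransparency.types false
set_option synthInstance.maxHeartbeats 400000
set_option maxHeartbeats 800000

open Polynomial Topology

namespace Groth.Agent.Helper7.AnEt

/-- If `F = G ∘ Θ` with `F` inducing, `Θ` continuous and `G` continuous on the range of `Θ`, then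
`Θ` is inducing. -/
theorem isInducing_of_comp_continuousOn {A B C : Type*} [TopologicalSpace A] [TopologicalSpace B]
    [TopologicalSpace C] (Θ : A → B) (F : A → C) (G : B → C) (hF : IsInducing F)
    (hΘ : Continuous Θ) (hG : ContinuousOn G (Set.range Θ)) (h : ∀ a, F a = G (Θ a)) :
    IsInducing Θ := by
  constructor
  apply le_antisymm hΘ.le_induced
  intro O hO
  rw [hF.isOpen_iff] at hO
  obtain ⟨OC, hOC, rfl⟩ := hO
  obtain ⟨OB, hOB, hOBeq⟩ := (continuousOn_iff'.mp hG) OC hOC
  refine isOpen_induced_iff.mpr ⟨OB, hOB, ?_⟩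
  ext a
  have h1 : Θ a ∈ G ⁻¹' OC ∩ Set.range Θ ↔ Θ a ∈ OB ∩ Set.range Θ := by rw [hOBeq]
  constructor
  · intro ha
    have h2 := h1.mpr ⟨ha, a, rfl⟩
    show F a ∈ OC
    rw [h]
    exact h2.1
  · intro ha
    have h2 : G (Θ a) ∈ OC := by
      rw [← h]
      exact ha
    exact (h1.mp ⟨h2, a, rfl⟩).1

/-- If `h ∘ j` restricted to an open set is an open embedding and `j` is an open embedding, then
`h` restricted to the image is an open embedding. -/
theorem isOpenEmbedding_domRestrict_image {A' A B : Type*} [TopologicalSpace A']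
    [TopologicalSpace A] [TopologicalSpace B] (j : A' → A) (hj : IsOpenEmbedding j) (h : A → B)
    (hh : Continuous h) (U' : Set A') (hU' : IsOpen U')
    (hemb : IsOpenEmbedding (U'.domRestrict (h ∘ j))) :
    IsOpenEmbedding ((j '' U').domRestrict h) := by
  apply IsOpenEmbedding.of_continuous_injective_isOpenMap
  · exact hh.comp continuous_subtype_val
  · rintro ⟨_, a₁, ha₁, rfl⟩ ⟨_, a₂, ha₂, rfl⟩ e
    have h1 : (⟨a₁, ha₁⟩ : U') = ⟨a₂, ha₂⟩ := hemb.injective e
    apply Subtype.ext
    exact congrArg (fun u : U' => j u.1) h1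
  · intro O hO
    have hjU : IsOpen (j '' U') := hj.isOpenMap U' hU'
    have h1 : IsOpen (Subtype.val '' O : Set A) := hjU.isOpenMap_subtype_val O hO
    have h2 : IsOpen {u : U' | j u.1 ∈ (Subtype.val '' O : Set A)} :=
      h1.preimage (hj.continuous.comp continuous_subtype_val)
    have h3 : (j '' U').domRestrict h '' O =
        U'.domRestrict (h ∘ j) '' {u : U' | j u.1 ∈ (Subtype.val '' O : Set A)} := by
      ext b
      constructor
      · rintro ⟨⟨_, a, ha, rfl⟩, ho, rfl⟩
        exact ⟨⟨a, ha⟩, ⟨_, ho, rfl⟩, rfl⟩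
      · rintro ⟨⟨a, ha⟩, ⟨o, ho, hoe⟩, rfl⟩
        refine ⟨o, ho, ?_⟩
        show h o.1 = h (j a)
        rw [hoe]
    rw [h3]
    exact hemb.isOpenMap _ h2

/-- The space of complex points of a complex algebra (given by its structure homomorphism). -/
def CHom {A : Type} [CommRing A] (φ : ℂ →+* A) : Type :=
  {χ : A →+* ℂ // χ.comp φ = RingHom.id ℂ}

namespace CHom

variable {A : Type} [CommRing A] {φ : ℂ →+* A}

noncomputable instance : TopologicalSpace (CHom φ) :=
  TopologicalSpace.induced (fun (χ : CHom φ) (a : A) => χ.1 a) inferInstance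

theorem isInducing_ev : IsInducing (fun (χ : CHom φ) (a : A) => χ.1 a) := ⟨rfl⟩

theorem continuous_ev (a : A) : Continuous (fun χ : CHom φ => χ.1 a) :=
  (continuous_apply a).comp continuous_induced_dom

theorem continuous_iff {Z : Type*} [TopologicalSpace Z] (F : Z → CHom φ) :
    Continuous F ↔ ∀ a, Continuous (fun z => (F z).1 a) := by
  rw [isInducing_ev.continuous_iff, continuous_pi_iff]
  rfl

theorem apply_structure (χ : CHom φ) (c : ℂ) : χ.1 (φ c) = c := congr($(χ.2) c)

/-- Functoriality of the space of complex points. -/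
def comap {B : Type} [CommRing B] {φB : ℂ →+* B} (ρ : A →+* B) (hρ : ρ.comp φ = φB)
    (χ : CHom φB) : CHom φ :=
  ⟨χ.1.comp ρ, by rw [RingHom.comp_assoc, hρ]; exact χ.2⟩

theorem continuous_comap {B : Type} [CommRing B] {φB : ℂ →+* B} (ρ : A →+* B)
    (hρ : ρ.comp φ = φB) : Continuous (comap ρ hρ) :=
  (continuous_iff _).mpr (fun a => continuous_ev (ρ a))

end CHom

open CHom

section Loc

theorem range_comap_loc {S : Type} [CommRing S] (φ : ℂ →+* S) (f : S) (Sf : Type) [CommRing Sf]
    [Algebra S Sf] [IsLocalization.Away f Sf] (φf : ℂ →+* Sf)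
    (hφf : (algebraMap S Sf).comp φ = φf) :
    Set.range (comap (φ := φ) (φB := φf) (algebraMap S Sf) hφf) = {χ | χ.1 f ≠ 0} := by
  ext χ
  constructor
  · rintro ⟨χ', rfl⟩
    exact ((IsLocalization.Away.algebraMap_isUnit (S := Sf) f).map χ'.1).ne_zero
  · intro hχ
    have hu : IsUnit (χ.1 f) := isUnit_iff_ne_zero.mpr hχ
    refine ⟨⟨IsLocalization.Away.lift f hu, ?_⟩, ?_⟩
    · rw [← hφf, ← RingHom.comp_assoc, IsLocalization.Away.lift_comp]
      exact χ.2
    · apply Subtype.ext
      exact IsLocalization.Away.lift_comp f hu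

theorem isOpenEmbedding_comap_loc {S : Type} [CommRing S] (φ : ℂ →+* S) (f : S) (Sf : Type)
    [CommRing Sf] [Algebra S Sf] [IsLocalization.Away f Sf] (φf : ℂ →+* Sf)
    (hφf : (algebraMap S Sf).comp φ = φf) :
    IsOpenEmbedding (comap (φ := φ) (φB := φf) (algebraMap S Sf) hφf) := by
  have hden : ∀ (χ' : CHom φf) (d : Submonoid.powers f), χ'.1 (algebraMap S Sf d) ≠ 0 := by
    intro χ' d
    exact ((IsLocalization.map_units Sf d).map χ'.1).ne_zero
  refine ⟨⟨?_, ?_⟩, ?_⟩
  · have hsurj := IsLocalization.surj (Submonoid.powers f) (S := Sf)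
    choose nd hnd using hsurj
    refine isInducing_of_comp_continuousOn _ (fun (χ' : CHom φf) (a : Sf) => χ'.1 a)
      (fun (χ : CHom φ) (a : Sf) => χ.1 (nd a).1 / χ.1 ((nd a).2 : S)) isInducing_ev
      (continuous_comap _ hφf) ?_ ?_
    · refine continuousOn_pi.mpr (fun a => ?_)
      refine ContinuousOn.div (continuous_ev _).continuousOn (continuous_ev _).continuousOn ?_
      rintro _ ⟨χ', rfl⟩
      exact hden χ' (nd a).2
    · intro χ'
      funext a
      show χ'.1 a = χ'.1 (algebraMap S Sf (nd a).1) / χ'.1 (algebraMap S Sf ((nd a).2 : S))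
      rw [eq_div_iff (hden χ' (nd a).2), ← map_mul, hnd a]
  · intro χ₁ χ₂ h
    apply Subtype.ext
    apply IsLocalization.ringHom_ext (Submonoid.powers f)
    exact congrArg Subtype.val h
  · rw [range_comap_loc φ f Sf φf hφf]
    exact isOpen_ne_fun (continuous_ev f) continuous_const

end Loc

section Std

variable {R S' : Type} [CommRing R] [CommRing S'] [Algebra R S']

theorem eval_map_comp (χ : S' →+* ℂ) (p : R[X]) (s : S') :
    (p.map (χ.comp (algebraMap R S'))).eval (χ s) = χ (aeval s p) := by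
  rw [Polynomial.eval_map, aeval_def, Polynomial.hom_eval₂]

/-- A standard étale algebra is generated by the base ring, the distinguished element and the
inverse of the value of `g`. -/
theorem subring_eq_top_of_presentation (pres : StandardEtalePresentation R S') (𝒜 : Subring S')
    (hR : ∀ r, algebraMap R S' r ∈ 𝒜) (hx : pres.x ∈ 𝒜)
    (hy : ((pres.hasMap.2.unit⁻¹ : S'ˣ) : S') ∈ 𝒜) : 𝒜 = ⊤ := by
  have h1 : ∀ B : R[X], aeval pres.x B ∈ 𝒜 := by
    intro B
    induction B using Polynomial.induction_on with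
    | C r =>
      rw [aeval_C]
      exact hR r
    | add p q hp hq =>
      rw [map_add]
      exact 𝒜.add_mem hp hq
    | monomial n r h =>
      rw [pow_succ, ← mul_assoc, map_mul, aeval_X]
      exact 𝒜.mul_mem h hx
  have h2 : ∀ A : R[X][X],
      aevalAeval pres.x ((pres.hasMap.2.unit⁻¹ : S'ˣ) : S') A ∈ 𝒜 := by
    intro A
    induction A using Polynomial.induction_on with
    | C B =>
      rw [aevalAeval_C]
      exact h1 B
    | add p q hp hq =>
      rw [map_add]
      exact 𝒜.add_mem hp hq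
    | monomial n B h =>
      rw [pow_succ, ← mul_assoc, map_mul, aevalAeval_Y]
      exact 𝒜.mul_mem h hy
  rw [eq_top_iff]
  intro s _
  obtain ⟨a, rfl⟩ := pres.lift_bijective.surjective s
  obtain ⟨A, rfl⟩ := Ideal.Quotient.mk_surjective
    (I := Ideal.span {C pres.f, (X : R[X][X]) * C pres.g - 1}) a
  exact h2 A

variable (φR : ℂ →+* R) (φ' : ℂ →+* S') (hφ' : (algebraMap R S').comp φR = φ')
  (pres : StandardEtalePresentation R S')

/-- the family of polynomials `f` over the space of points of the base -/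
noncomputable def famF (ψ : CHom φR) : ℂ[X] := pres.f.map ψ.1

/-- the family of polynomials `g` over the space of points of the base -/
noncomputable def famG (ψ : CHom φR) : ℂ[X] := pres.g.map ψ.1

theorem famF_monic (ψ : CHom φR) : (famF φR pres ψ).Monic := pres.monic_f.map ψ.1

theorem famF_natDegree (ψ : CHom φR) : (famF φR pres ψ).natDegree = pres.f.natDegree :=
  pres.monic_f.natDegree_map ψ.1

theorem famF_coeff_continuous (i : ℕ) : Continuous (fun ψ : CHom φR => (famF φR pres ψ).coeff i) := by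
  have : (fun ψ : CHom φR => (famF φR pres ψ).coeff i) = fun ψ => ψ.1 (pres.f.coeff i) := by
    funext ψ
    exact Polynomial.coeff_map _ _
  rw [this]
  exact continuous_ev _

theorem famG_natDegree_le (ψ : CHom φR) : (famG φR pres ψ).natDegree ≤ pres.g.natDegree :=
  Polynomial.natDegree_map_le

theorem famG_coeff_continuous (i : ℕ) : Continuous (fun ψ : CHom φR => (famG φR pres ψ).coeff i) := by
  have : (fun ψ : CHom φR => (famG φR pres ψ).coeff i) = fun ψ => ψ.1 (pres.g.coeff i) := by
    funext ψ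
    exact Polynomial.coeff_map _ _
  rw [this]
  exact continuous_ev _

theorem continuous_evalG :
    Continuous (fun q : CHom φR × ℂ => (famG φR pres q.1).eval q.2) :=
  continuous_eval_family (famG_natDegree_le φR pres) (famG_coeff_continuous φR pres)

/-- The map sending a point of the standard étale algebra to the pair (point of the base, value
of the distinguished element). -/
noncomputable def Θ (χ : CHom φ') : CHom φR × ℂ := (comap (algebraMap R S') hφ' χ, χ.1 pres.x)

theorem continuous_Θ : Continuous (Θ φR φ' hφ' pres) :=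
  (continuous_comap _ hφ').prodMk (continuous_ev _)

theorem evalF_Θ (χ : CHom φ') :
    (famF φR pres (Θ φR φ' hφ' pres χ).1).eval (Θ φR φ' hφ' pres χ).2 = 0 := by
  show (pres.f.map (χ.1.comp (algebraMap R S'))).eval (χ.1 pres.x) = 0
  rw [eval_map_comp, pres.hasMap.1, map_zero]

theorem evalG_Θ (χ : CHom φ') :
    (famG φR pres (Θ φR φ' hφ' pres χ).1).eval (Θ φR φ' hφ' pres χ).2 =
      χ.1 (aeval pres.x pres.g) := by
  show (pres.g.map (χ.1.comp (algebraMap R S'))).eval (χ.1 pres.x) = _
  rw [eval_map_comp]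

theorem evalG_Θ_ne (χ : CHom φ') :
    (famG φR pres (Θ φR φ' hφ' pres χ).1).eval (Θ φR φ' hφ' pres χ).2 ≠ 0 := by
  rw [evalG_Θ]
  exact (pres.hasMap.2.map χ.1).ne_zero

theorem apply_inv (χ : CHom φ') :
    χ.1 ((pres.hasMap.2.unit⁻¹ : S'ˣ) : S') =
      ((famG φR pres (Θ φR φ' hφ' pres χ).1).eval (Θ φR φ' hφ' pres χ).2)⁻¹ := by
  rw [evalG_Θ]
  have h1 : χ.1 ((pres.hasMap.2.unit⁻¹ : S'ˣ) : S') * χ.1 (aeval pres.x pres.g) = 1 := by
    rw [← map_mul]
    have : ((pres.hasMap.2.unit⁻¹ : S'ˣ) : S') * aeval pres.x pres.g = 1 := by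
      have h2 := pres.hasMap.2.unit.inv_mul
      rw [IsUnit.unit_spec] at h2
      exact h2
    rw [this, map_one]
  exact eq_inv_of_mul_eq_one_left h1

theorem Θ_injective : Function.Injective (Θ φR φ' hφ' pres) := by
  intro χ₁ χ₂ h
  have hres : comap (algebraMap R S') hφ' χ₁ = comap (algebraMap R S') hφ' χ₂ :=
    congrArg Prod.fst h
  have hx : χ₁.1 pres.x = χ₂.1 pres.x := congrArg Prod.snd h
  have htop : RingHom.eqLocus χ₁.1 χ₂.1 = ⊤ := by
    apply subring_eq_top_of_presentation pres
    · intro r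
      exact congr($(congrArg Subtype.val hres) r)
    · exact hx
    · show χ₁.1 _ = χ₂.1 _
      rw [apply_inv φR φ' hφ' pres χ₁, apply_inv φR φ' hφ' pres χ₂, h]
  apply Subtype.ext
  ext s
  have hs : s ∈ RingHom.eqLocus χ₁.1 χ₂.1 := by
    rw [htop]
    trivial
  exact hs

theorem mem_range_Θ (ψ : CHom φR) (t : ℂ) (h1 : (famF φR pres ψ).eval t = 0)
    (h2 : (famG φR pres ψ).eval t ≠ 0) : (ψ, t) ∈ Set.range (Θ φR φ' hφ' pres) := by
  letI : Algebra R ℂ := ψ.1.toAlgebra
  have halg : ∀ r, algebraMap R ℂ r = ψ.1 r := fun r => rfl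
  have hmap : pres.HasMap t := by
    constructor
    · rw [aeval_def, Polynomial.eval₂_eq_eval_map]
      exact h1
    · rw [aeval_def, Polynomial.eval₂_eq_eval_map]
      exact isUnit_iff_ne_zero.mpr h2
  let χa : S' →ₐ[R] ℂ := (pres.lift t hmap).comp pres.equivRing.toAlgHom
  have hχa : ∀ r, χa (algebraMap R S' r) = ψ.1 r := fun r => χa.commutes r
  refine ⟨⟨χa.toRingHom, ?_⟩, ?_⟩
  · rw [← hφ']
    ext c
    show χa (algebraMap R S' (φR c)) = c
    rw [hχa]
    exact apply_structure ψ c
  · apply Prod.ext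
    · apply Subtype.ext
      ext r
      exact hχa r
    · show (pres.lift t hmap) (pres.equivRing pres.x) = t
      rw [pres.equivRing_x, StandardEtalePair.lift_X]

theorem isInducing_Θ : IsInducing (Θ φR φ' hφ' pres) := by
  have hrange : Set.range (Θ φR φ' hφ' pres) ⊆
      {q : CHom φR × ℂ | (famG φR pres q.1).eval q.2 ≠ 0} := by
    rintro _ ⟨χ, rfl⟩
    exact evalG_Θ_ne φR φ' hφ' pres χ
  let 𝒜 : Subring S' :=
    { carrier := {s | ∃ c : CHom φR × ℂ → ℂ,
        ContinuousOn c {q : CHom φR × ℂ | (famG φR pres q.1).eval q.2 ≠ 0} ∧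
        ∀ χ : CHom φ', χ.1 s = c (Θ φR φ' hφ' pres χ)}
      mul_mem' := by
        rintro a b ⟨c, hc, hca⟩ ⟨d, hd, hdb⟩
        refine ⟨fun q => c q * d q, hc.mul hd, fun χ => ?_⟩
        show χ.1 (a * b) = c (Θ φR φ' hφ' pres χ) * d (Θ φR φ' hφ' pres χ)
        rw [map_mul, hca χ, hdb χ]
      one_mem' := ⟨fun _ => 1, continuousOn_const, fun χ => map_one _⟩
      add_mem' := by
        rintro a b ⟨c, hc, hca⟩ ⟨d, hd, hdb⟩
        refine ⟨fun q => c q + d q, hc.add hd, fun χ => ?_⟩
        show χ.1 (a + b) = c (Θ φR φ' hφ' pres χ) + d (Θ φR φ' hφ' pres χ)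
        rw [map_add, hca χ, hdb χ]
      zero_mem' := ⟨fun _ => 0, continuousOn_const, fun χ => map_zero _⟩
      neg_mem' := by
        rintro a ⟨c, hc, hca⟩
        refine ⟨fun q => - c q, hc.neg, fun χ => ?_⟩
        show χ.1 (-a) = - c (Θ φR φ' hφ' pres χ)
        rw [map_neg, hca χ] }
  have htop : 𝒜 = ⊤ := by
    apply subring_eq_top_of_presentation pres
    · intro r
      exact ⟨fun q => q.1.1 r, ((continuous_ev r).comp continuous_fst).continuousOn, fun χ => rfl⟩
    · exact ⟨fun q => q.2, continuous_snd.continuousOn, fun χ => rfl⟩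
    · refine ⟨fun q => ((famG φR pres q.1).eval q.2)⁻¹, ?_, fun χ => apply_inv φR φ' hφ' pres χ⟩
      exact (continuous_evalG φR pres).continuousOn.inv₀ (fun q hq => hq)
  have hall : ∀ s : S', ∃ c : CHom φR × ℂ → ℂ,
        ContinuousOn c {q : CHom φR × ℂ | (famG φR pres q.1).eval q.2 ≠ 0} ∧
        ∀ χ : CHom φ', χ.1 s = c (Θ φR φ' hφ' pres χ) := by
    intro s
    have hs : s ∈ 𝒜 := by
      rw [htop]
      trivial
    exact hs
  choose c hc hcs using hall
  refine isInducing_of_comp_continuousOn _ (fun (χ : CHom φ') (s : S') => χ.1 s)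
    (fun q s => c s q) isInducing_ev (continuous_Θ φR φ' hφ' pres) ?_ ?_
  · exact continuousOn_pi.mpr (fun s => (hc s).mono hrange)
  · intro χ
    funext s
    exact hcs s χ

/-- **Local structure of the points of a standard étale algebra**: the map to the points of the
base is, locally on the source, an open embedding. -/
theorem exists_isOpenEmbedding_std (pres : StandardEtalePresentation R S') (χ₀ : CHom φ') :
    ∃ U : Set (CHom φ'), IsOpen U ∧ χ₀ ∈ U ∧
      IsOpenEmbedding (U.domRestrict (comap (φ := φR) (φB := φ') (algebraMap R S') hφ')) := by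
  have hm := famF_monic φR pres
  have hd := famF_natDegree φR pres
  have hc := famF_coeff_continuous φR pres
  -- the simple root
  have hsimple : (famF φR pres (Θ φR φ' hφ' pres χ₀).1).derivative.eval
      (Θ φR φ' hφ' pres χ₀).2 ≠ 0 := by
    show ((pres.f.map (χ₀.1.comp (algebraMap R S'))).derivative).eval (χ₀.1 pres.x) ≠ 0
    rw [Polynomial.derivative_map, eval_map_comp]
    exact (pres.hasMap.isUnit_derivative_f.map χ₀.1).ne_zero
  obtain ⟨N, hN, hy₀, r, hr, hinj⟩ := exists_injOn_nhds hd hc _ _ hsimple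
  let U : Set (CHom φ') := {χ | (Θ φR φ' hφ' pres χ).1 ∈ N ∧
    ‖(Θ φR φ' hφ' pres χ).2 - (Θ φR φ' hφ' pres χ₀).2‖ < r}
  have hU : IsOpen U :=
    (hN.preimage (continuous_fst.comp (continuous_Θ φR φ' hφ' pres))).inter
      (isOpen_lt ((continuous_snd.comp (continuous_Θ φR φ' hφ' pres)).sub
        continuous_const).norm continuous_const)
  refine ⟨U, hU, ⟨hy₀, by rw [sub_self, norm_zero]; exact hr⟩, ?_⟩
  apply IsOpenEmbedding.of_continuous_injective_isOpenMap
  · exact (continuous_comap _ hφ').comp continuous_subtype_val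
  · rintro ⟨χ₁, h1⟩ ⟨χ₂, h2⟩ e
    have e' : (Θ φR φ' hφ' pres χ₁).1 = (Θ φR φ' hφ' pres χ₂).1 := e
    apply Subtype.ext
    apply Θ_injective φR φ' hφ' pres
    apply Prod.ext e'
    refine hinj _ h1.1 _ _ h1.2 h2.2 (evalF_Θ φR φ' hφ' pres χ₁) ?_
    rw [e']
    exact evalF_Θ φR φ' hφ' pres χ₂
  · -- open map
    have hπ := isOpenMap_root_proj hm hd hc
    have hΘ' : IsOpenMap (fun χ : CHom φ' =>
        (⟨Θ φR φ' hφ' pres χ, evalF_Θ φR φ' hφ' pres χ⟩ :
          {q : CHom φR × ℂ // (famF φR pres q.1).eval q.2 = 0})) := by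
      intro O hO
      obtain ⟨O₁, hO₁, rfl⟩ := (isInducing_Θ φR φ' hφ' pres).isOpen_iff.mp hO
      have h3 : (fun χ : CHom φ' =>
          (⟨Θ φR φ' hφ' pres χ, evalF_Θ φR φ' hφ' pres χ⟩ :
            {q : CHom φR × ℂ // (famF φR pres q.1).eval q.2 = 0})) ''
          (Θ φR φ' hφ' pres ⁻¹' O₁) =
          {e | e.1 ∈ O₁ ∧ (famG φR pres e.1.1).eval e.1.2 ≠ 0} := by
        ext e
        constructor
        · rintro ⟨χ, hχ, rfl⟩
          exact ⟨hχ, evalG_Θ_ne φR φ' hφ' pres χ⟩
        · rintro ⟨he1, he2⟩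
          obtain ⟨χ, hχ⟩ := mem_range_Θ φR φ' hφ' pres e.1.1 e.1.2 e.2 he2
          refine ⟨χ, ?_, Subtype.ext hχ⟩
          show Θ φR φ' hφ' pres χ ∈ O₁
          rw [hχ]
          exact he1
      rw [h3]
      exact (hO₁.preimage continuous_subtype_val).inter
        (isOpen_ne_fun ((continuous_evalG φR pres).comp continuous_subtype_val) continuous_const)
    exact (hπ.comp hΘ').comp hU.isOpenEmbedding_subtypeVal.isOpenMap

end Std

end Groth.Agent.Helper7.AnEt
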