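import Mathlib
import Groth.Prelude.Def_AnPts
import Groth.Prelude.Def_AnEps
import Groth.Agent.Lib.Helper7.AnPts4
import Groth.Agent.Lib.Helper7.AnEt.Hom

set_option linter.style.haveILetI false
set_option linter.unusedVariables false
set_option linter.unusedSectionVars false
set_option autoImplicit false
set_option backward.isDefEq.respectTransparency.types false
set_option synthInstance.maxHeartbeats 400000
set_option maxHeartbeats 800000

open AlgebraicGeometry CategoryTheory TopologicalSpace Opposite An Topology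
open Groth.Agent.Helper7.AnPts

namespace Groth.Agent.Helper7.AnEt

open CHom

section Aff

variable {X Y : Scheme.{0}} [X.Over SC] [Y.Over SC]

/-- The complex point of the ring of global sections defined by a complex point. -/
noncomputable def toCHom (z : Pts X) : CHom (strHom X) :=
  ⟨evTopHom z, evTopHom_comp_strHom z⟩

theorem toCHom_bijective [IsAffine X] : Function.Bijective (toCHom (X := X)) := by
  constructor
  · intro z₁ z₂ h
    exact evTopHom_injective (congrArg Subtype.val h)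
  · intro χ
    obtain ⟨z, hz⟩ := exists_pt_of_ringHom χ.1 χ.2
    exact ⟨z, Subtype.ext hz⟩

theorem toCHom_continuous : Continuous (toCHom (X := X)) := by
  rw [CHom.continuous_iff]
  intro a
  have h1 : (fun z : Pts X => (toCHom z).1 a) = fun z => z.evTop a :=
    funext (fun z => (evTop_eq z a).symm)
  rw [h1]
  exact continuous_evTop a

theorem toCHom_isInducing [IsAffine X] : IsInducing (toCHom (X := X)) :=
  isInducing_of_evTop_factor _ toCHom_continuous
    (fun g => ⟨fun χ => χ.1 g, continuous_ev g, fun z => evTop_eq z g⟩)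

/-- For affine `X`, the space of complex points is the space of complex points of the ring of
global sections. -/
noncomputable def homeoCHom (X : Scheme.{0}) [X.Over SC] [IsAffine X] :
    Pts X ≃ₜ CHom (strHom X) :=
  (⟨toCHom_isInducing, toCHom_bijective.1⟩ :
    IsEmbedding (toCHom (X := X))).toHomeomorphOfSurjective toCHom_bijective.2

theorem homeoCHom_apply [IsAffine X] (z : Pts X) : homeoCHom X z = toCHom z := rfl

theorem toCHom_map (g : X ⟶ Y) [g.IsOver SC] (z : Pts X) :
    toCHom (Pts.map g z) = comap g.appTop.hom (strHom_eq_comp g).symm (toCHom z) :=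
  Subtype.ext (evTopHom_map g z)

theorem affine_local (X Y : Scheme.{0}) [X.Over SC] [Y.Over SC] [IsAffine X] [IsAffine Y]
    (g : X ⟶ Y) [g.IsOver SC] [Etale g] (x₀ : Pts X) :
    ∃ U : Set (Pts X), IsOpen U ∧ x₀ ∈ U ∧ IsOpenEmbedding (U.domRestrict (Pts.map g)) := by
  let ρ : Γ(Y, ⊤) →+* Γ(X, ⊤) := g.appTop.hom
  have hρet : ρ.Etale := (HasRingHomProperty.iff_of_isAffine (P := @Etale)).mp inferInstance
  have hρ : ρ.comp (strHom Y) = strHom X := (strHom_eq_comp g).symm
  algebraize [ρ]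
  have halg : ∀ r, algebraMap Γ(Y, ⊤) Γ(X, ⊤) r = ρ r := fun r => rfl
  haveI hQp : (RingHom.ker (evTopHom x₀)).IsPrime := RingHom.ker_isPrime _
  have hQ : Algebra.IsEtaleAt Γ(Y, ⊤) (RingHom.ker (evTopHom x₀)) := by
    have h1 : Algebra.etaleLocus Γ(Y, ⊤) Γ(X, ⊤) = Set.univ :=
      Algebra.etaleLocus_eq_univ_iff.mpr inferInstance
    have h2 : (⟨RingHom.ker (evTopHom x₀), hQp⟩ : PrimeSpectrum Γ(X, ⊤)) ∈
        Algebra.etaleLocus Γ(Y, ⊤) Γ(X, ⊤) := by
      rw [h1]
      trivial
    exact h2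
  haveI := hQ
  obtain ⟨f, hfQ, hstd⟩ := Algebra.IsEtaleAt.exists_isStandardEtale (R := Γ(Y, ⊤))
    (RingHom.ker (evTopHom x₀))
  obtain ⟨pres⟩ := hstd.nonempty_standardEtalePresentation
  have hφ' : (algebraMap Γ(Y, ⊤) (Localization.Away f)).comp (strHom Y) =
      (algebraMap Γ(X, ⊤) (Localization.Away f)).comp (strHom X) := by
    rw [IsScalarTower.algebraMap_eq Γ(Y, ⊤) Γ(X, ⊤) (Localization.Away f), RingHom.comp_assoc]
    congr 1
  have hf0 : (toCHom x₀).1 f ≠ 0 := fun h => hfQ (RingHom.mem_ker.mpr h)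
  have hj := isOpenEmbedding_comap_loc (strHom X) f (Localization.Away f)
    ((algebraMap Γ(X, ⊤) (Localization.Away f)).comp (strHom X)) rfl
  have hrange := range_comap_loc (strHom X) f (Localization.Away f)
    ((algebraMap Γ(X, ⊤) (Localization.Away f)).comp (strHom X)) rfl
  obtain ⟨χ₀', hχ₀'⟩ : toCHom x₀ ∈ Set.range (comap (φ := strHom X)
      (φB := (algebraMap Γ(X, ⊤) (Localization.Away f)).comp (strHom X))
      (algebraMap Γ(X, ⊤) (Localization.Away f)) rfl) := by
    rw [hrange]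
    exact hf0
  obtain ⟨U', hU', hχU', hemb'⟩ := exists_isOpenEmbedding_std (strHom Y)
    ((algebraMap Γ(X, ⊤) (Localization.Away f)).comp (strHom X)) hφ' pres χ₀'
  have hjemb : IsOpenEmbedding ((homeoCHom X).symm ∘ comap (φ := strHom X)
      (φB := (algebraMap Γ(X, ⊤) (Localization.Away f)).comp (strHom X))
      (algebraMap Γ(X, ⊤) (Localization.Away f)) rfl) :=
    (homeoCHom X).symm.isOpenEmbedding.comp hj
  have hcomp : Pts.map g ∘ ((homeoCHom X).symm ∘ comap (φ := strHom X)
      (φB := (algebraMap Γ(X, ⊤) (Localization.Away f)).comp (strHom X))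
      (algebraMap Γ(X, ⊤) (Localization.Away f)) rfl) =
      (homeoCHom Y).symm ∘ comap (φ := strHom Y)
        (φB := (algebraMap Γ(X, ⊤) (Localization.Away f)).comp (strHom X))
        (algebraMap Γ(Y, ⊤) (Localization.Away f)) hφ' := by
    funext χ'
    apply (homeoCHom Y).injective
    rw [Function.comp_apply, Function.comp_apply, Function.comp_apply,
      (homeoCHom Y).apply_symm_apply, homeoCHom_apply, toCHom_map, ← homeoCHom_apply,
      (homeoCHom X).apply_symm_apply]
    apply Subtype.ext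
    ext r
    show χ'.1 (algebraMap Γ(X, ⊤) (Localization.Away f) (ρ r)) =
      χ'.1 (algebraMap Γ(Y, ⊤) (Localization.Away f) r)
    rw [IsScalarTower.algebraMap_apply Γ(Y, ⊤) Γ(X, ⊤) (Localization.Away f) r, halg]
  have hemb2 : IsOpenEmbedding (U'.domRestrict (Pts.map g ∘ ((homeoCHom X).symm ∘
      comap (φ := strHom X)
      (φB := (algebraMap Γ(X, ⊤) (Localization.Away f)).comp (strHom X))
      (algebraMap Γ(X, ⊤) (Localization.Away f)) rfl))) := by
    rw [hcomp]
    exact (homeoCHom Y).symm.isOpenEmbedding.comp hemb'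
  refine ⟨_ '' U', hjemb.isOpenMap U' hU', ⟨χ₀', hχU', ?_⟩,
    isOpenEmbedding_domRestrict_image _ hjemb (Pts.map g) (Pts.continuous_map g) U' hU' hemb2⟩
  show (homeoCHom X).symm (comap _ rfl χ₀') = x₀
  rw [hχ₀', ← homeoCHom_apply]
  exact (homeoCHom X).symm_apply_apply x₀

end Aff

theorem S4197_main : An.EtaleLH := by
  intro X Y _ _ _ g _ _
  rw [isLocalHomeomorph_iff_isOpenEmbedding_restrict]
  intro x₀
  obtain ⟨_, ⟨V, hV, rfl⟩, hyV, -⟩ := Y.isBasis_affineOpens.exists_subset_of_mem_open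
    (Set.mem_univ (g x₀.pt)) isOpen_univ
  replace hV : IsAffineOpen (V : Y.Opens) := hV
  have hx1 : x₀.pt ∈ g ⁻¹ᵁ V := hyV
  obtain ⟨U, hU, hxU, hUV⟩ := exists_isAffineOpen_mem_and_subset hx1
  haveI : IsAffine (Scheme.Opens.toScheme V) := hV
  haveI : IsAffine (Scheme.Opens.toScheme U) := hU
  have e : U ≤ g ⁻¹ᵁ V := hUV
  haveI : (g.resLE V U e).IsOver SC := ⟨by
    rw [← comp_over (Scheme.Opens.ι V) SC, ← Category.assoc, Scheme.Hom.resLE_comp_ι,
      Category.assoc, comp_over g SC, comp_over (Scheme.Opens.ι U) SC]⟩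
  haveI : Etale (g.resLE V U e) := inferInstance
  have hx' : x₀ ∈ Set.range (Pts.map (Scheme.Opens.ι U)) := by
    rw [range_map_ι]
    exact hxU
  obtain ⟨w₀, rfl⟩ := hx'
  obtain ⟨N', hN', hwN', hemb'⟩ := affine_local _ _ (g.resLE V U e) w₀
  have hjU := isOpenEmbedding_map_of_isOpenImmersion (Scheme.Opens.ι U)
  have hjV := isOpenEmbedding_map_of_isOpenImmersion (Scheme.Opens.ι V)
  have hcomp : Pts.map g ∘ Pts.map (Scheme.Opens.ι U) =
      Pts.map (Scheme.Opens.ι V) ∘ Pts.map (g.resLE V U e) := by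
    funext w
    apply Subtype.ext
    show (w.1 ≫ Scheme.Opens.ι U) ≫ g = (w.1 ≫ g.resLE V U e) ≫ Scheme.Opens.ι V
    rw [Category.assoc, Category.assoc, Scheme.Hom.resLE_comp_ι]
  have hemb2 : IsOpenEmbedding (N'.domRestrict (Pts.map g ∘ Pts.map (Scheme.Opens.ι U))) := by
    rw [hcomp]
    exact hjV.comp hemb'
  exact ⟨Pts.map (Scheme.Opens.ι U) '' N', (hjU.isOpenMap N' hN').mem_nhds ⟨w₀, hwN', rfl⟩,
    isOpenEmbedding_domRestrict_image _ hjU (Pts.map g) (Pts.continuous_map g) N' hN' hemb2⟩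

end Groth.Agent.Helper7.AnEt
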