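import Mathlib
import Groth.Agent.Lib.Helper7.AnEt.Hom

set_option linter.style.haveILetI false
set_option linter.unusedVariables false
set_option linter.unusedSectionVars false
set_option autoImplicit false
set_option backward.isDefEq.respectTransparency.types false
set_option synthInstance.maxHeartbeats 400000
set_option maxHeartbeats 800000

open Polynomial Topology Filter
open scoped NNReal

namespace Groth.Agent.Helper7.AnEt

open CHom

theorem norm_le_of_monic_root (p : ℂ[X]) (hp : p.Monic) (t : ℂ) (ht : p.eval t = 0) :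
    ‖t‖ ≤ 1 + ∑ i ∈ Finset.range p.natDegree, ‖p.coeff i‖ := by
  have h1 : ‖t‖₊ < Polynomial.cauchyBound p :=
    Polynomial.IsRoot.norm_lt_cauchyBound hp.ne_zero (a := t) ht
  have h2 : Polynomial.cauchyBound p ≤ 1 + ∑ i ∈ Finset.range p.natDegree, ‖p.coeff i‖₊ := by
    unfold Polynomial.cauchyBound
    rw [hp.leadingCoeff, nnnorm_one, div_one, add_comm]
    gcongr
    exact Finset.sup_le (fun i hi =>
      Finset.single_le_sum (f := fun i => ‖p.coeff i‖₊) (fun _ _ => zero_le) hi)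
  have h3 : ‖t‖₊ ≤ 1 + ∑ i ∈ Finset.range p.natDegree, ‖p.coeff i‖₊ := h1.le.trans h2
  have h4 : ((‖t‖₊ : ℝ≥0) : ℝ) ≤
      ((1 + ∑ i ∈ Finset.range p.natDegree, ‖p.coeff i‖₊ : ℝ≥0) : ℝ) := NNReal.coe_le_coe.mpr h3
  simpa [NNReal.coe_sum] using h4

/-- An integral homomorphism of complex algebras induces a proper map on spaces of complex
points. -/
theorem isProperMap_comap_of_isIntegral {A B : Type} [CommRing A] [CommRing B] {φA : ℂ →+* A}
    {φB : ℂ →+* B} (ρ : B →+* A) (hρ : ρ.comp φB = φA) (hint : ρ.IsIntegral) :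
    IsProperMap (comap (φ := φB) (φB := φA) ρ hρ) := by
  rw [isProperMap_iff_ultrafilter]
  refine ⟨continuous_comap ρ hρ, ?_⟩
  intro 𝒰 ψ₀ hψ₀
  have hlim : ∀ a : A, ∃ l : ℂ, Tendsto (fun χ : CHom φA => χ.1 a) 𝒰 (𝓝 l) := by
    intro a
    obtain ⟨p, hp, hpa⟩ := hint a
    have hM : Continuous (fun ψ : CHom φB =>
        1 + ∑ i ∈ Finset.range p.natDegree, ‖ψ.1 (p.coeff i)‖) :=
      continuous_const.add (continuous_finsetSum _ (fun i _ => (continuous_ev _).norm))
    have hbound : ∀ χ : CHom φA, ‖χ.1 a‖ ≤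
        1 + ∑ i ∈ Finset.range p.natDegree, ‖(comap ρ hρ χ).1 (p.coeff i)‖ := by
      intro χ
      have hroot : (p.map (χ.1.comp ρ)).eval (χ.1 a) = 0 := by
        rw [Polynomial.eval_map, ← Polynomial.hom_eval₂, hpa, map_zero]
      have h1 := norm_le_of_monic_root _ (hp.map (χ.1.comp ρ)) _ hroot
      rw [hp.natDegree_map] at h1
      refine h1.trans (le_of_eq ?_)
      congr 1
      apply Finset.sum_congr rfl
      intro i _
      rw [Polynomial.coeff_map]
      rfl
    have hev : ∀ᶠ χ in (𝒰 : Filter (CHom φA)),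
        1 + ∑ i ∈ Finset.range p.natDegree, ‖(comap ρ hρ χ).1 (p.coeff i)‖ <
          (1 + ∑ i ∈ Finset.range p.natDegree, ‖ψ₀.1 (p.coeff i)‖) + 1 :=
      ((hM.tendsto ψ₀).comp hψ₀).eventually (gt_mem_nhds (lt_add_one _))
    have hball : Metric.closedBall (0 : ℂ)
        ((1 + ∑ i ∈ Finset.range p.natDegree, ‖ψ₀.1 (p.coeff i)‖) + 1) ∈
          (𝒰.map (fun χ : CHom φA => χ.1 a)) := by
      rw [Ultrafilter.mem_map]
      filter_upwards [hev] with χ hχ
      rw [Set.mem_preimage, mem_closedBall_zero_iff]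
      exact (hbound χ).trans hχ.le
    obtain ⟨l, -, hl⟩ := (isCompact_closedBall (0 : ℂ)
      ((1 + ∑ i ∈ Finset.range p.natDegree, ‖ψ₀.1 (p.coeff i)‖) + 1)).ultrafilter_le_nhds
      (𝒰.map _) (by rwa [Filter.le_principal_iff])
    exact ⟨l, hl⟩
  choose l hl using hlim
  have huniq : ∀ {F : CHom φA → ℂ} {c d : ℂ}, Tendsto F 𝒰 (𝓝 c) → Tendsto F 𝒰 (𝓝 d) → c = d :=
    fun h1 h2 => tendsto_nhds_unique h1 h2
  let χ₀ : A →+* ℂ :=
    { toFun := l
      map_one' := huniq (hl 1) (by simp_rw [map_one]; exact tendsto_const_nhds)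
      map_mul' := fun a b => huniq (hl (a * b)) (by simp_rw [map_mul]; exact (hl a).mul (hl b))
      map_zero' := huniq (hl 0) (by simp_rw [map_zero]; exact tendsto_const_nhds)
      map_add' := fun a b => huniq (hl (a + b)) (by simp_rw [map_add]; exact (hl a).add (hl b)) }
  have hχ₀ : χ₀.comp φA = RingHom.id ℂ := by
    ext c
    exact huniq (hl (φA c)) (by simp_rw [apply_structure]; exact tendsto_const_nhds)
  refine ⟨⟨χ₀, hχ₀⟩, ?_, ?_⟩
  · apply Subtype.ext
    ext b
    show l (ρ b) = ψ₀.1 b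
    have h1 : Tendsto (fun χ : CHom φA => χ.1 (ρ b)) 𝒰 (𝓝 (ψ₀.1 b)) :=
      ((continuous_ev b).tendsto ψ₀).comp hψ₀
    exact huniq (hl (ρ b)) h1
  · rw [isInducing_ev.nhds_eq_comap, ← Filter.map_le_iff_le_comap]
    exact tendsto_pi_nhds.mpr (fun a => hl a)

/-- Spaces of complex points of complex algebras are Hausdorff. -/
instance {A : Type} [CommRing A] (φ : ℂ →+* A) : T2Space (CHom φ) := by
  have hemb : IsEmbedding (fun (χ : CHom φ) (a : A) => χ.1 a) :=
    ⟨isInducing_ev, fun χ₁ χ₂ h => Subtype.ext (RingHom.ext (fun a => congrFun h a))⟩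
  exact hemb.t2Space

end Groth.Agent.Helper7.AnEt
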