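import Mathlib
import Groth.Prelude.Def_AnPts
import Groth.Prelude.Def_AnEps
import Groth.Agent.Lib.Helper7.AnPts4
import Groth.Agent.Lib.Helper7.AnEt.Main
import Groth.Agent.Lib.Helper7.AnEt.Proper

set_option linter.style.haveILetI false
set_option linter.unusedVariables false
set_option linter.unusedSectionVars false
set_option autoImplicit false
set_option backward.isDefEq.respectTransparency.types false
set_option synthInstance.maxHeartbeats 400000
set_option maxHeartbeats 800000

open AlgebraicGeometry CategoryTheory TopologicalSpace Opposite An Topology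
open Groth.Agent.Helper7.AnPts

namespace Groth.Agent.Helper7.AnEt

open CHom

section Aff

variable {X Y : Scheme.{0}} [X.Over SC] [Y.Over SC]

theorem t2Space_pts_of_isAffine [IsAffine X] : T2Space (Pts X) :=
  (homeoCHom X).isEmbedding.t2Space

theorem isProperMap_map_of_isFinite [IsAffine X] [IsAffine Y] (g : X ⟶ Y) [g.IsOver SC]
    [IsFinite g] : IsProperMap (Pts.map g) := by
  have hfin : g.appTop.hom.Finite :=
    ((HasAffineProperty.iff_of_isAffine (P := @IsFinite)).mp inferInstance).2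
  have hint := RingHom.IsIntegral.of_finite hfin
  have hprop := isProperMap_comap_of_isIntegral (φA := strHom X) (φB := strHom Y)
    g.appTop.hom (strHom_eq_comp g).symm hint
  have hcomp : Pts.map g = (homeoCHom Y).symm ∘
      (comap (φ := strHom Y) (φB := strHom X) g.appTop.hom (strHom_eq_comp g).symm ∘
        (homeoCHom X)) := by
    funext z
    apply (homeoCHom Y).injective
    rw [Function.comp_apply, Function.comp_apply, (homeoCHom Y).apply_symm_apply,
      homeoCHom_apply, homeoCHom_apply, toCHom_map]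
  rw [hcomp]
  exact (homeoCHom Y).symm.isProperMap.comp (hprop.comp (homeoCHom X).isProperMap)

theorem isCoveringMap_affine [IsAffine Y] [LocallyOfFiniteType (Y ↘ SC)] (g : X ⟶ Y)
    [g.IsOver SC] [IsFinite g] [Etale g] :
    IsCoveringMap (Pts.map g) ∧ ∀ y : Pts Y, (Pts.map g ⁻¹' {y}).Finite := by
  haveI : IsAffine X := isAffine_of_isAffineHom g
  haveI := t2Space_pts_of_isAffine (X := X)
  have hprop := isProperMap_map_of_isFinite g
  have hlh : IsLocalHomeomorph (Pts.map g) := S4197_main X Y g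
  have hfin : ∀ y : Pts Y, (Pts.map g ⁻¹' {y}).Finite := by
    intro y
    have hc : IsCompact (Pts.map g ⁻¹' {y}) := hprop.isCompact_preimage isCompact_singleton
    refine hc.finite (IsDiscrete.of_openPartialHomeomorph (Pts.map g) subset_rfl (fun e _ => ?_))
    obtain ⟨φ, h1, h2⟩ := hlh e
    exact ⟨φ, h1, h2.symm⟩
  refine ⟨?_, hfin⟩
  rw [isCoveringMap_iff_isCoveringMapOn_univ]
  apply hprop.isClosedMap.isCoveringMapOn_of_isLocalHomeomorphOn (fun y _ => hfin y)
  exact hlh.isLocalHomeomorphOn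

end Aff

theorem S4206_main (X Y : Scheme.{0}) [X.Over SC] [LocallyOfFiniteType (X ↘ SC)]
    [Y.Over SC] [LocallyOfFiniteType (Y ↘ SC)] (f : X ⟶ Y) [f.IsOver SC] [IsFinite f] [Etale f] :
    IsCoveringMap (Pts.map f) ∧ ∀ y : Pts Y, (Pts.map f ⁻¹' {y}).Finite := by
  have key : ∀ y₀ : Pts Y, IsEvenlyCovered (Pts.map f) y₀ (Pts.map f ⁻¹' {y₀}) ∧
      (Pts.map f ⁻¹' {y₀}).Finite := by
    intro y₀
    obtain ⟨_, ⟨V₀, hV₀, rfl⟩, hyV, -⟩ :=
      Y.isBasis_affineOpens.exists_subset_of_mem_open (Set.mem_univ y₀.pt) isOpen_univ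
    obtain ⟨V, hVV⟩ : ∃ V : Y.Opens, V = V₀ := ⟨V₀, rfl⟩
    subst hVV
    replace hV₀ : IsAffineOpen V := hV₀
    haveI : IsAffine (V : Scheme.{0}) := hV₀
    haveI : LocallyOfFiniteType ((V : Scheme.{0}) ↘ SC) := by
      show LocallyOfFiniteType (V.ι ≫ (Y ↘ SC))
      infer_instance
    obtain ⟨hcov, hfin⟩ := isCoveringMap_affine (f ∣_ V)
    have hra : Set.range (Pts.map (f ⁻¹ᵁ V).ι) = Pts.map f ⁻¹' (Pts.pt ⁻¹' (V : Set Y)) := by
      rw [range_map_ι]
      ext x
      simp only [Set.mem_preimage]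
      rfl
    have hcomm : ∀ z, Pts.map f (Pts.map (f ⁻¹ᵁ V).ι z) = Pts.map V.ι (Pts.map (f ∣_ V) z) := by
      intro z
      apply Subtype.ext
      simp only [Pts.map_val, Category.assoc, morphismRestrict_ι]
    obtain ⟨α, β, e⟩ := restrictPreimage_eq_comp (Pts.map f) (Pts.pt ⁻¹' (V : Set Y))
      (Pts.map (f ⁻¹ᵁ V).ι) (Pts.map V.ι) (Pts.map (f ∣_ V))
      (isOpenEmbedding_map_of_isOpenImmersion _) (isOpenEmbedding_map_of_isOpenImmersion _)
      hra (range_map_ι V) hcomm
    have hcov2 : IsCoveringMap ((Pts.pt ⁻¹' (V : Set Y)).restrictPreimage (Pts.map f)) := by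
      rw [e]
      exact (hcov.comp_homeomorph α.symm).homeomorph_comp β
    have hon := IsCoveringMapOn.of_isCoveringMap_restrictPreimage _ (Pts.isOpen_preimage_pt V)
      ((Pts.isOpen_preimage_pt V).preimage (Pts.continuous_map f)) hcov2
    refine ⟨hon y₀ hyV, ?_⟩
    have hy' : y₀ ∈ Set.range (Pts.map V.ι) := by
      rw [range_map_ι]
      exact hyV
    obtain ⟨y₀', rfl⟩ := hy'
    refine Set.Finite.subset ((hfin y₀').image (Pts.map (f ⁻¹ᵁ V).ι)) ?_
    intro x hx
    have hx1 : x ∈ Set.range (Pts.map (f ⁻¹ᵁ V).ι) := by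
      rw [hra]
      show Pts.map f x ∈ Pts.pt ⁻¹' (V : Set Y)
      rw [Set.mem_singleton_iff.mp hx]
      exact hyV
    obtain ⟨x', rfl⟩ := hx1
    refine ⟨x', ?_, rfl⟩
    have h2 : Pts.map V.ι (Pts.map (f ∣_ V) x') = Pts.map V.ι y₀' := by
      rw [← hcomm]
      exact hx
    exact map_injective_of_mono V.ι h2
  exact ⟨fun y₀ => (key y₀).1, fun y₀ => (key y₀).2⟩

end Groth.Agent.Helper7.AnEt
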